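import Cfsg.Agent.Lib.BC78.Subsections
import Cfsg.Agent.Lib.BrauerPairs.SubsectionCount
import Cfsg.Agent.Lib.Chars82.RealChars

/-!
# Principal blocks with `k = l + 1`

All nontrivial `p`-elements are conjugate and every character of the principal block takes one
integral value on all `p`-singular elements. For odd `p` the Frobenius–Schur indicators give a
further linear relation between these values.
-/

set_option autoImplicit false
set_option linter.style.haveILetI false
set_option linter.unusedSectionVars false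

namespace Cfsg.Agent.Lib.PrincipalFew

open scoped ComplexConjugate
open Cfsg.Agent.Lib.Blocks Cfsg.Agent.Lib.Blocks.Contrib Cfsg.Agent.Lib.BC78.Subsections
open Cfsg.Agent.Lib.Characters.Basic Cfsg.Agent.Lib.BrauerPairs.RankAbelian
open Cfsg.Agent.Lib.Chars82.RealChars

universe u

variable {G : Type u} [Group G] [Finite G] {p : ℕ} [hp : Fact p.Prime]
  {M : Ideal Cfsg.AlgInt} [M.IsMaximal]

/-- A rational algebraic integer is an integer. -/
theorem exists_int {z : ℂ} (hz : IsIntegral ℤ z) {m : ℤ} {n : ℕ} (hn : n ≠ 0)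
    (h : (n : ℂ) * z = m) : ∃ j : ℤ, z = j := by
  have hzq : z = algebraMap ℚ ℂ ((m : ℚ) / n) := by
    rw [map_div₀, map_intCast, map_natCast, eq_div_iff (Nat.cast_ne_zero.mpr hn), mul_comm, h]
  rw [hzq] at hz ⊢
  have hq : IsIntegral ℤ ((m : ℚ) / n) :=
    (isIntegral_algebraMap_iff (algebraMap ℚ ℂ).injective).mp hz
  obtain ⟨j, hj⟩ := IsIntegrallyClosed.isIntegral_iff.mp hq
  exact ⟨j, by rw [← hj]; simp⟩

/-- The trivial character is fixed by `p`-regular restriction. -/
theorem regInd_ne_zero :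
    Cfsg.pRegularPart p (oneChar G : G → ℂ) ≠ 0 := by
  intro h
  have := congrFun h 1
  rw [pRegularPart_apply, if_neg (by simp [hp.out.ne_one]), oneChar_apply] at this
  exact one_ne_zero this

open scoped Classical in
/-- Inside a span of rank at most one, a function of this form is constant. -/
theorem const_of_span {H : Type u} [Group H] (V : Submodule ℂ (H → ℂ)) [FiniteDimensional ℂ V]
    (hV : Module.finrank ℂ V ≤ 1) (f : H → ℂ)
    (h1 : (fun y => if p ∣ orderOf y then 0 else (1 : ℂ)) ∈ V)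
    (hf : (fun y => if p ∣ orderOf y then 0 else f y) ∈ V) (y : H) (hy : ¬ p ∣ orderOf y) :
    f y = f 1 := by
  have h11 : ¬ p ∣ orderOf (1 : H) := by simp [hp.out.ne_one]
  have hne : (⟨_, h1⟩ : V) ≠ 0 := fun e => by
    have := congrFun (congrArg Subtype.val e) 1
    simp only [ZeroMemClass.coe_zero, Pi.zero_apply, if_neg h11] at this
    exact one_ne_zero this
  have hrk : Module.finrank ℂ V = 1 := by
    refine le_antisymm hV ?_
    haveI : Nontrivial V := ⟨⟨_, 0, hne⟩⟩
    exact Module.finrank_pos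
  obtain ⟨c, hc⟩ := exists_smul_eq_of_finrank_eq_one hrk hne (⟨_, hf⟩ : V)
  have key : ∀ z : H, ¬ p ∣ orderOf z → f z = c := fun z hz => by
    have := congrFun (congrArg Subtype.val hc) z
    simp only [SetLike.val_smul, Pi.smul_apply, smul_eq_mul, if_neg hz, mul_one] at this
    exact this.symm
  rw [key y hy, key 1 h11]

variable (hM : Cfsg.IsPModular p M)
  (hk : Nat.card (Cfsg.principalBlock M G) = Cfsg.blockRank p (Cfsg.principalBlock M G) + 1)
include hM hk

open scoped Classical in
/-- There is an element taking every singular value. -/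
theorem exists_rep : ∃ z : G, p ∣ orderOf z ∧ ∀ χ ∈ Cfsg.principalBlock M G, ∀ g : G,
    p ∣ orderOf g → (χ : G → ℂ) g = (χ : G → ℂ) z := by
  haveI := Fintype.ofFinite G
  haveI := Cfsg.Agent.Lib.BrauerPairs.Bridge.charP_res hM
  set B := Cfsg.principalBlock M G with hBdef
  have hB : Cfsg.IsPBlock M B := isPBlock_principalBlock
  obtain ⟨X, hX1, hX, hXrep⟩ := exists_reps (G := G) p
  have hsum := card_eq_sum hM X hX hXrep hB
  rw [← Finset.add_sum_erase X _ hX1,
    Cfsg.Agent.Lib.BrauerPairs.SubsectionCount.sum_indBlocks_one hM hB, hk] at hsum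
  have hS : ∑ z ∈ X.erase 1, ∑ e ∈ indBlocks M z B, Cfsg.blockRank p e = 1 := by omega
  let V : ∀ z : G, Submodule ℂ (Subgroup.centralizer ({z} : Set G) → ℂ) := fun z =>
    (indBlocks M z B).sup fun b => regSpan p b
  have hfin : ∀ z, Module.finrank ℂ (V z) ≤ ∑ e ∈ indBlocks M z B, Cfsg.blockRank p e := by
    intro z
    show Module.finrank ℂ ((indBlocks M z B).sup fun b => regSpan p b :
      Submodule ℂ (Subgroup.centralizer ({z} : Set G) → ℂ)) ≤ _
    generalize indBlocks M z B = S
    induction S using Finset.induction_on with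
    | empty => simp
    | insert b S hbS ih =>
      rw [Finset.sup_insert, Finset.sum_insert hbS]
      exact (Submodule.finrank_add_le_finrank_add_finrank _ _).trans (Nat.add_le_add le_rfl ih)
  have hmemV : ∀ z ∈ X, ∀ χ ∈ B, (fun y : Subgroup.centralizer ({z} : Set G) =>
      if p ∣ orderOf y then 0 else (χ : G → ℂ) (z * y)) ∈ V z := by
    intro z hz χ hχ
    obtain ⟨i, hi⟩ := hX z hz
    refine Submodule.span_le.mpr ?_ (mem_regSpan hM z hi hB hχ)
    refine Set.iUnion₂_subset fun b hb => ?_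
    exact Submodule.subset_span.trans
      (Finset.le_sup (f := fun b => regSpan p b) (mem_indBlocks.2 hb))
  have hone : ∀ z ∈ X, (fun y : Subgroup.centralizer ({z} : Set G) =>
      if p ∣ orderOf y then 0 else (1 : ℂ)) ∈ V z := by
    intro z hz
    have h := hmemV z hz (oneChar G) oneChar_mem_principalBlock
    simpa [oneChar_apply] using h
  have hpos : ∀ z ∈ X, 1 ≤ ∑ e ∈ indBlocks M z B, Cfsg.blockRank p e := by
    intro z hz
    refine le_trans ?_ (hfin z)
    rw [Nat.one_le_iff_ne_zero]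
    intro h0
    rw [Submodule.finrank_eq_zero] at h0
    have h := hone z hz
    rw [h0, Submodule.mem_bot] at h
    have := congrFun h 1
    simp [hp.out.ne_one] at this
  have hle1 : (X.erase 1).card ≤ 1 := by
    exact (Finset.card_eq_sum_ones _).trans_le
      (le_trans (Finset.sum_le_sum fun z hz => hpos z (Finset.mem_of_mem_erase hz)) hS.le)
  obtain ⟨z, hz⟩ : (X.erase 1).Nonempty := by
    by_contra he
    rw [Finset.not_nonempty_iff_eq_empty] at he
    rw [he, Finset.sum_empty] at hS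
    omega
  have hzX := Finset.mem_of_mem_erase hz
  have hz1 : z ≠ 1 := Finset.ne_of_mem_erase hz
  obtain ⟨i, hi⟩ := hX z hzX
  have hi0 : i ≠ 0 := by
    rintro rfl
    exact hz1 (orderOf_eq_one_iff.mp (by simpa using hi))
  refine ⟨z, hi ▸ dvd_pow_self p hi0, fun χ hχ g hg => ?_⟩
  obtain ⟨u, hu⟩ := exists_isPPart hp.out g
  have hu1 : u ≠ 1 := isPPart_ne_one hu hg
  obtain ⟨v, rfl, hc, ⟨j, hj⟩, hv⟩ := hu
  obtain ⟨x, ⟨hxX, hconj⟩, -⟩ := hXrep u ⟨j, hj⟩
  have hx1 : x ≠ 1 := fun e => hu1 (isConj_one_right.mp (e ▸ hconj.symm))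
  have hxz : x = z :=
    Finset.card_le_one.mp hle1 x (Finset.mem_erase.mpr ⟨hx1, hxX⟩) z hz
  subst hxz
  obtain ⟨t, ht⟩ := isConj_iff.mp hconj
  have hvC : t * v * t⁻¹ ∈ Subgroup.centralizer ({x} : Set G) := by
    rw [Subgroup.mem_centralizer_singleton_iff, ← ht]
    calc t * v * t⁻¹ * (t * u * t⁻¹) = t * (v * u) * t⁻¹ := by group
      _ = t * (u * v) * t⁻¹ := by rw [hc.eq]
      _ = t * u * t⁻¹ * (t * v * t⁻¹) := by group
  have hreg : ¬ p ∣ orderOf (⟨_, hvC⟩ : Subgroup.centralizer ({x} : Set G)) := by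
    rw [Subgroup.orderOf_mk,
      show orderOf (t * v * t⁻¹) = orderOf v from (MulAut.conj t).orderOf_eq v]
    exact hv
  have hV : Module.finrank ℂ (V x) ≤ 1 := (hfin x).trans (hS ▸ Finset.single_le_sum
    (f := fun z => ∑ e ∈ indBlocks M z B, Cfsg.blockRank p e) (fun _ _ => Nat.zero_le _) hz)
  have := const_of_span (V x) hV (fun y => (χ : G → ℂ) (x * y)) (hone x hzX) (hmemV x hzX χ hχ)
    ⟨_, hvC⟩ hreg
  simp only [OneMemClass.coe_one, mul_one] at this
  rw [← this, ← ht, ← isClassFunction_irr χ (u * v) t]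
  congr 1
  group

/-- The singular values are integers. -/
theorem exists_values : ∃ a : Cfsg.IrrCharacter G → ℤ,
    (∀ χ ∈ Cfsg.principalBlock M G, ∀ g : G, p ∣ orderOf g → (χ : G → ℂ) g = a χ) ∧
    a (oneChar G) = 1 ∧ p ∣ Nat.card G := by
  classical
  haveI := Fintype.ofFinite G
  obtain ⟨z, hz, hval⟩ := exists_rep hM hk
  have hpG : p ∣ Nat.card G := hz.trans (orderOf_dvd_natCard z)
  obtain ⟨w, hw⟩ := exists_prime_orderOf_dvd_card' p hpG
  have hex : ∀ χ : Cfsg.IrrCharacter G, ∃ j : ℤ, χ ∈ Cfsg.principalBlock M G →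
      (χ : G → ℂ) z = j := by
    intro χ
    by_cases hχ : χ ∈ Cfsg.principalBlock M G
    swap
    · exact ⟨0, fun h => absurd h hχ⟩
    haveI := Fintype.ofFinite (Subgroup.zpowers w)
    obtain ⟨m, hm⟩ := exists_classInner_nat
      (isCharacter_comp (Subgroup.zpowers w).subtype (isCharacter_irr χ))
      (isCharacter_one (G := Subgroup.zpowers w))
    obtain ⟨d, hd⟩ := exists_degree (isCharacter_irr χ)
    rw [Cfsg.classInner, inv_mul_eq_iff_eq_mul₀ (Nat.cast_ne_zero.mpr Nat.card_pos.ne'),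
      Nat.card_zpowers, hw] at hm
    rw [← Finset.add_sum_erase _ _ (Finset.mem_univ (1 : Subgroup.zpowers w)),
      Finset.sum_congr rfl fun y hy => show _ = (χ : G → ℂ) z by
        simp only [Pi.one_apply, map_one, mul_one, Function.comp_apply, Subgroup.coe_subtype]
        refine hval χ hχ _ ?_
        rw [Subgroup.orderOf_coe]
        have h1 : orderOf y ∣ p := by
          have := orderOf_dvd_natCard y
          rwa [Nat.card_zpowers, hw] at this
        rcases (Nat.dvd_prime hp.out).mp h1 with h | h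
        · exact absurd (orderOf_eq_one_iff.mp h) (Finset.ne_of_mem_erase hy)
        · rw [h]] at hm
    simp only [Pi.one_apply, map_one, mul_one, Function.comp_apply, Subgroup.coe_subtype,
      OneMemClass.coe_one, hd, Finset.sum_const, Finset.card_erase_of_mem (Finset.mem_univ _),
      Finset.card_univ, nsmul_eq_mul] at hm
    rw [← Nat.card_eq_fintype_card, Nat.card_zpowers, hw] at hm
    obtain ⟨j, hj⟩ := exists_int (z := (χ : G → ℂ) z) (isIntegral_apply (isCharacter_irr χ) z)
      (m := (p * m : ℤ) - d) (n := p - 1) (by have := hp.out.two_le; omega)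
      (by push_cast; linear_combination hm)
    exact ⟨j, fun _ => hj⟩
  choose a ha using hex
  refine ⟨a, fun χ hχ g hg => (hval χ hχ g hg).trans (ha χ hχ), ?_, hpG⟩
  have := ha (oneChar G) oneChar_mem_principalBlock
  rw [oneChar_apply] at this
  exact_mod_cast this.symm

variable {a : Cfsg.IrrCharacter G → ℤ}
  (ha : ∀ χ ∈ Cfsg.principalBlock M G, ∀ g : G, p ∣ orderOf g → (χ : G → ℂ) g = a χ)
include ha

omit hk in
/-- Degrees are congruent to the values modulo the order of a `p`-subgroup. -/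
theorem dvd_degree_sub {P : Subgroup G} (hP : IsPGroup p P) {χ : Cfsg.IrrCharacter G}
    (hχ : χ ∈ Cfsg.principalBlock M G) :
    (Nat.card P : ℤ) ∣ (Cfsg.charDegree (χ : G → ℂ) : ℤ) - a χ := by
  classical
  haveI := Fintype.ofFinite P
  obtain ⟨m, hm⟩ := exists_classInner_nat (isCharacter_comp P.subtype (isCharacter_irr χ))
    (isCharacter_one (G := P))
  rw [Cfsg.classInner, inv_mul_eq_iff_eq_mul₀ (Nat.cast_ne_zero.mpr Nat.card_pos.ne'),
    ← Finset.add_sum_erase _ _ (Finset.mem_univ (1 : P)),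
    Finset.sum_congr rfl fun y hy => show _ = (a χ : ℂ) by
      simp only [Pi.one_apply, map_one, mul_one, Function.comp_apply, Subgroup.coe_subtype]
      refine ha χ hχ _ ?_
      obtain ⟨k, hk'⟩ := IsPGroup.iff_orderOf.mp hP y
      rw [Subgroup.orderOf_coe, hk']
      refine dvd_pow_self p fun e => Finset.ne_of_mem_erase hy ?_
      rw [e, pow_zero, orderOf_eq_one_iff] at hk'
      exact hk'] at hm
  simp only [Pi.one_apply, map_one, mul_one, Function.comp_apply, Subgroup.coe_subtype,
    OneMemClass.coe_one, char_one_eq_degree, Finset.sum_const,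
    Finset.card_erase_of_mem (Finset.mem_univ _), Finset.card_univ, nsmul_eq_mul,
    ← Nat.card_eq_fintype_card] at hm
  rw [Nat.cast_sub Nat.card_pos, Nat.cast_one] at hm
  refine ⟨(m : ℤ) - a χ, ?_⟩
  have h : ((Cfsg.charDegree (χ : G → ℂ) : ℤ) - a χ : ℤ) =
      (((Nat.card P : ℤ) * ((m : ℤ) - a χ) : ℤ) : ℤ) := by
    exact_mod_cast (show ((Cfsg.charDegree (χ : G → ℂ) : ℂ) - (a χ : ℂ)) =
      (Nat.card P : ℂ) * ((m : ℂ) - (a χ : ℂ)) by linear_combination hm)
  exact h

omit hk in
/-- The values are orthogonal to the degrees. -/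
theorem sum_degree_mul (hpG : p ∣ Nat.card G) :
    ∑ χ ∈ bset (Cfsg.principalBlock M G), (Cfsg.charDegree (χ : G → ℂ) : ℤ) * a χ = 0 := by
  classical
  obtain ⟨w, hw⟩ := exists_prime_orderOf_dvd_card' p hpG
  have h := weak_orthogonality hM (isPBlock_principalBlock (M := M) (G := G))
    (x := (1 : G)) (y := w) (by simp [hp.out.ne_one]) (hw ▸ dvd_rfl)
  rw [finsum_mem_eq_finite_toFinset_sum _ (Set.toFinite _)] at h
  have h' : ((∑ χ ∈ bset (Cfsg.principalBlock M G),
      (Cfsg.charDegree (χ : G → ℂ) : ℤ) * a χ : ℤ) : ℂ) = 0 := by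
    push_cast
    rw [← h]
    refine Finset.sum_congr rfl fun χ hχ => ?_
    rw [ha χ (mem_bset.mp hχ) w (hw ▸ dvd_rfl), char_one_eq_degree, map_intCast]
  exact_mod_cast h'

omit hk in
/-- The relation from the Frobenius–Schur indicators. -/
theorem sum_nu_mul [Fintype G] (hp2 : p ≠ 2) (hpG : p ∣ Nat.card G)
    (h1 : a (oneChar G) = 1) :
    ∑ χ ∈ bset (Cfsg.principalBlock M G), (a χ : ℂ) * nu (χ : G → ℂ) = 1 := by
  classical
  set S := bset (Cfsg.principalBlock M G)
  set K : G → ℂ := fun g => ∑ χ ∈ S, (a χ : ℂ) * (χ : G → ℂ) g with hK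
  have hreg : ∀ g, ¬ p ∣ orderOf g → K g = 0 := by
    intro g hg
    obtain ⟨w, hw⟩ := exists_prime_orderOf_dvd_card' p hpG
    have h := weak_orthogonality hM (isPBlock_principalBlock (M := M) (G := G)) hg
      (y := w) (hw ▸ dvd_rfl)
    rw [finsum_mem_eq_finite_toFinset_sum _ (Set.toFinite _)] at h
    rw [← h]
    refine Finset.sum_congr rfl fun χ hχ => ?_
    rw [ha χ (mem_bset.mp hχ) w (hw ▸ dvd_rfl), map_intCast, mul_comm]
  have hKsq : ∀ g, K (g * g) = K g := by
    intro g
    by_cases hg : p ∣ orderOf g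
    · have hg2 : p ∣ orderOf (g * g) := by
        rw [← pow_two, orderOf_pow' g two_ne_zero]
        refine Nat.dvd_div_of_mul_dvd ?_
        refine Nat.Coprime.mul_dvd_of_dvd_of_dvd ?_ (Nat.gcd_dvd_left _ _) hg
        exact Nat.Coprime.coprime_dvd_left (Nat.gcd_dvd_right _ _)
          ((Nat.coprime_primes Nat.prime_two hp.out).mpr (Ne.symm hp2))
      exact Finset.sum_congr rfl fun χ hχ => by
        rw [ha χ (mem_bset.mp hχ) _ hg, ha χ (mem_bset.mp hχ) _ hg2]
    · have hg2 : ¬ p ∣ orderOf (g * g) := fun h =>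
        hg (h.trans (pow_two g ▸ orderOf_pow_dvd 2))
      rw [hreg g hg, hreg _ hg2]
  have hsum : ∑ g, K g = (Nat.card G : ℂ) := by
    simp only [hK]
    rw [Finset.sum_comm, Finset.sum_eq_single (oneChar G)]
    · simp [h1, oneChar_apply, Nat.card_eq_fintype_card]
    · intro χ _ hne
      have h := classInner_irr_of_ne hne
      rw [Cfsg.classInner, mul_eq_zero, inv_eq_zero] at h
      have h' := h.resolve_left (Nat.cast_ne_zero.mpr Nat.card_pos.ne')
      simp only [oneChar_apply, map_one, mul_one] at h'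
      rw [← Finset.mul_sum, h', mul_zero]
    · intro hn
      exact absurd (mem_bset.mpr oneChar_mem_principalBlock) hn
  have hn : (Nat.card G : ℂ) ≠ 0 := Nat.cast_ne_zero.mpr Nat.card_pos.ne'
  calc ∑ χ ∈ S, (a χ : ℂ) * nu (χ : G → ℂ)
      = (Nat.card G : ℂ)⁻¹ * ∑ g, K (g * g) := by
        simp only [nu, hK]
        rw [Finset.sum_comm, Finset.mul_sum]
        exact Finset.sum_congr rfl fun χ _ => by
          rw [mul_left_comm, Finset.mul_sum]
    _ = 1 := by rw [Finset.sum_congr rfl fun g _ => hKsq g, hsum, inv_mul_cancel₀ hn]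

end Cfsg.Agent.Lib.PrincipalFew
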